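import Groth.Agent.L27.FinBC.AcyclicFibres

/-! # Base change of locally acyclic morphisms with acyclic fibres along pro-quasi-finite morphisms -/

universe u

open CategoryTheory CategoryTheory.Limits AlgebraicGeometry Opposite IsLocalRing

set_option autoImplicit false
set_option backward.isDefEq.respectTransparency.types false
set_option linter.style.haveILetI false
set_option linter.unusedSectionVars false

noncomputable section

namespace Groth.L27.CompLA

open Groth.L27.LimCoh Groth.L27.LimBC Groth.L27.FinBC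

variable {n : ℕ} [NeZero n]

/-- Local acyclicity on a weakly etale neighbourhood on which `n` is invertible. -/
theorem strongLA_const' {X S : Scheme.{u}} {f : X ⟶ S} (hla : EtRest.IsLocallyAcyclic f)
    {Y T : Scheme.{u}} (g : Y ⟶ T) (u : Y ⟶ X) [WeaklyEtale u] (v : T ⟶ S) [WeaklyEtale v]
    (w : u ≫ f = g ≫ v) (hn : IsUnit (n : Γ(Y, ⊤))) : StrongLA g (EtCoh.const Y (ZMod n)) := by
  intro R A _ _ _ _ _ _ _ _ a _ b _ hab Ω _ _ _ _ q
  letI : Algebra (S.presheaf.stalk ((a ≫ v) (closedPoint R))) R :=
    (Scheme.stalkClosedPointTo (a ≫ v)).hom.toAlgebra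
  obtain ⟨_, hRS⟩ := isStrictHenselization_closedPointTo R (a ≫ v)
  let x := (b ≫ u) (closedPoint A)
  letI : Algebra (X.presheaf.stalk x) A := (Scheme.stalkClosedPointTo (b ≫ u)).hom.toAlgebra
  obtain ⟨_, hAX⟩ := isStrictHenselization_closedPointTo A (b ≫ u)
  have hnx : (n : X.residueField x) ≠ 0 := by
    have hA : IsUnit (n : A) := by
      have h := hn.map (((Scheme.ΓSpecIso (CommRingCat.of A)).hom).hom.comp b.appTop.hom)
      rwa [map_natCast] at h
    have hs : IsUnit (n : X.presheaf.stalk x) :=
      isUnit_of_map_unit (algebraMap (X.presheaf.stalk x) A) _ (by rwa [map_natCast])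
    have h := hs.map (X.residue x).hom
    rw [map_natCast] at h
    exact h.ne_zero
  have hwab : (b ≫ u) ≫ f = Spec.map (CommRingCat.ofHom (algebraMap R A)) ≫ (a ≫ v) := by
    rw [Category.assoc, w, ← Category.assoc, hab, Category.assoc]
  have hsx : f x = (a ≫ v) (closedPoint R) := by
    refine (Scheme.Hom.comp_apply (b ≫ u) f _).symm.trans ?_
    rw [hwab, Scheme.Hom.comp_apply]
    exact congrArg (a ≫ v) (IsLocalRing.comap_closedPoint (algebraMap R A))
  have hpt : IsPt n (Spec (CommRingCat.of (TensorProduct R A Ω))) := by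
    have key : ∀ (s : S) (hs : f x = s) [Algebra (S.presheaf.stalk s) R]
        [IsLocalHom (algebraMap (S.presheaf.stalk s) R)] [Hensel.IsStrictHenselization (S.presheaf.stalk s) R],
        Hens2.specOf S s R = a ≫ v → IsPt n (Spec (CommRingCat.of (TensorProduct R A Ω))) := by
      intro s hs _ _ _ hspec
      subst hs
      have hx : Hens2.specOf X x A = b ≫ u := Scheme.Spec_stalkClosedPointTo_fromSpecStalk (b ≫ u)
      have hc : (algebraMap R A).comp (algebraMap (S.presheaf.stalk (f x)) R) =
          (algebraMap (X.presheaf.stalk x) A).comp (f.stalkMap x).hom := by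
        have h : CommRingCat.ofHom (algebraMap (S.presheaf.stalk (f x)) R) ≫ CommRingCat.ofHom (algebraMap R A) =
            f.stalkMap x ≫ CommRingCat.ofHom (algebraMap (X.presheaf.stalk x) A) := by
          apply Spec.map_injective
          rw [← cancel_mono (S.fromSpecStalk (f x)), Spec.map_comp, Spec.map_comp, Category.assoc, Category.assoc,
            Scheme.SpecMap_stalkMap_fromSpecStalk]
          exact (congrArg (_ ≫ ·) hspec).trans (hwab.symm.trans ((congrArg (· ≫ f) hx.symm).trans (Category.assoc _ _ _)))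
        exact congrArg CommRingCat.Hom.hom h
      exact hla x R A hc Ω n hnx
    exact key _ hsx (Scheme.Spec_stalkClosedPointTo_fromSpecStalk (a ≫ v))
  exact bijective_Hpull_congr _ (EtCore.pullConst b (ZMod n)).symm q
    (bijective_Hpull_isPt _ (isPt_strict A) hpt q)

variable {X S : Scheme.{u}} (f : X ⟶ S) [QuasiCompact f] [QuasiSeparated f]
  (hstrong : StrongLA f (EtCoh.const X (ZMod n)))
  (hfib : ∀ (Ω : Type u) [Field Ω] [IsSepClosed Ω] (t : Spec (CommRingCat.of Ω) ⟶ S), IsPt n (pullback f t))

include hstrong hfib in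
/-- The base changes to strictly local schemes integral over weakly etale ones have the cohomology of a point. -/
theorem isPt_integral_strict {R₀ R : Type u} [CommRing R₀] [CommRing R] [HenselianLocalRing R]
    [IsSepClosed (ResidueField R)] [Algebra R₀ R] [Algebra.IsIntegral R₀ R]
    (η : Spec (CommRingCat.of R₀) ⟶ S) [WeaklyEtale η] (η' : Spec (CommRingCat.of R) ⟶ S)
    (hη : Spec.map (CommRingCat.ofHom (algebraMap R₀ R)) ≫ η = η') : IsPt n (pullback f η') := by
  have hfibre : ∀ (L : Type u) [Field L] [IsSepClosed L] {U : Scheme.{u}} (u : U ⟶ X)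
      (bU : U ⟶ Spec (CommRingCat.of L)) (g : Spec (CommRingCat.of L) ⟶ S), IsPullback u bU f g → IsPt n U :=
    fun L _ _ U u bU g c => (isPt_of_iso c.isoPullback.hom).2 (hfib L g)
  let pR := pullback.snd f η'
  let aR := pullback.fst f η'
  have hN : DomainHyp pR ((EtCoh.pull aR).obj (EtCoh.const X (ZMod n))) := by
    intro N _ _ _ _ _ hroots K _ r hr W V a bW cW j bV cV _ q
    haveI : IsAlgClosed K := IsAlgClosed.of_exists_root _ fun p hp hirr => by
      obtain ⟨P, hP⟩ := Polynomial.map_surjective r hr p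
      obtain ⟨P', hP', hdeg, hmon⟩ := Polynomial.lifts_and_natDegree_eq_and_monic
        (show p ∈ Polynomial.lifts r from ⟨P, hP⟩) hp
      obtain ⟨x, hx⟩ := hroots P' hmon (hdeg ▸ hirr.natDegree_pos)
      exact ⟨r x, by rw [← hP', Polynomial.eval_map, Polynomial.eval₂_at_apply, hx.eq_zero, map_zero]⟩
    let Ω := FractionRing N
    haveI : IsAlgClosed Ω := IsAlgClosed.of_exists_root _ fun p hp hirr =>
      L20.IntCover.hasRoots_localization hroots (nonZeroDivisors N) (L := Ω) p hp hirr.natDegree_pos
    letI : Algebra R₀ N := ((algebraMap R N).comp (algebraMap R₀ R)).toAlgebra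
    haveI : IsScalarTower R₀ R N := IsScalarTower.of_algebraMap_eq' rfl
    haveI : Algebra.IsIntegral R₀ N := Algebra.IsIntegral.trans R
    let tΩ := Spec.map (CommRingCat.ofHom (algebraMap N Ω))
    let h := pullback.fst bW tΩ
    haveI := EtSite.preservesFiniteLimits_pull h
    have cR := cW.paste_horiz (IsPullback.of_hasPullback f η')
    have hNN : Spec.map (CommRingCat.ofHom (algebraMap R N)) ≫ η' =
        Spec.map (CommRingCat.ofHom (algebraMap R₀ N)) ≫ η := by
      rw [← hη, ← Spec.map_comp_assoc]
      rfl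
    let a₀ : W ⟶ pullback f η := pullback.lift (a ≫ aR) (bW ≫ Spec.map (CommRingCat.ofHom (algebraMap R₀ N)))
      (by rw [Category.assoc bW, ← hNN]; exact cR.w)
    have cW₀ : IsPullback a₀ bW (pullback.snd f η) (Spec.map (CommRingCat.ofHom (algebraMap R₀ N))) :=
      IsPullback.of_right (v₁₃ := f) (h₁₂ := pullback.fst f η) (h₂₂ := η)
        (isPullback_congr (pullback.lift_fst _ _ _).symm hNN cR) (pullback.lift_snd _ _ _)
        (IsPullback.of_hasPullback f η)
    let e := ((EtCore.pullComp a₀ (pullback.fst f η)).symm.app (EtCoh.const X (ZMod n))) ≪≫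
      EtCore.pullConst (a₀ ≫ pullback.fst f η) (ZMod n)
    let e' := ((EtCore.pullComp a aR).symm.app (EtCoh.const X (ZMod n))) ≪≫ EtCore.pullConst (a ≫ aR) (ZMod n)
    have hW : IsPt n W := by
      refine (isPt_of_bijective h fun q => ?_).1 (hfibre Ω _ _ _ ((IsPullback.of_hasPullback bW tΩ).paste_horiz cR))
      exact bijective_Hpull_congr h e q
        (bijective_Hpull_generic hstrong η N hroots a₀ bW cW₀ Ω (IsFractionRing.injective N Ω) h _
          (IsPullback.of_hasPullback _ _) q)
    exact bijective_Hpull_congr j e'.symm q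
      (bijective_Hpull_isPt j hW (hfibre K _ _ _ (cV.paste_horiz cR)) q)
  let i₀ := Spec.map (CommRingCat.ofHom (residue R))
  let i := pullback.fst pR i₀
  haveI := EtSite.preservesFiniteLimits_pull i
  refine (isPt_of_bijective i fun q => ?_).1 ?_
  · exact bijective_Hpull_congr i (EtCore.pullConst aR (ZMod n)) q
      (bijective_closedFibre pR ((EtCoh.pull aR).obj (EtCoh.const X (ZMod n))) i _
        (IsPullback.of_hasPullback pR i₀) hN q)
  · exact hfibre (ResidueField R) _ _ _
      ((IsPullback.of_hasPullback pR i₀).paste_horiz (IsPullback.of_hasPullback f η'))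

include hstrong hfib in
/-- Base change along an integral morphism over a weakly etale one is acyclic for constant coefficients. -/
theorem bijective_Hpull_pullback {T₀ T : Scheme.{u}} (π : T ⟶ T₀) [IsIntegralHom π] (v : T₀ ⟶ S) [WeaklyEtale v]
    [PreservesFiniteLimits (EtCoh.pull (pullback.snd f (π ≫ v)))] (q : ℕ) :
    Function.Bijective (EtCore.Hpull (pullback.snd f (π ≫ v)) (EtCoh.const T (ZMod n)) q) := by
  let h := pullback.snd f (π ≫ v)
  refine bijective_Hpull_of_stalks h _ (fun y => ?_) q
  obtain ⟨R, _, _, _, _, hR⟩ := L05.Henselization.exists_isStrictHenselization (T.presheaf.stalk y)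
  haveI := hR
  obtain ⟨_, _⟩ := StalkBC.henselian_strict y R
  obtain ⟨R₀, _, _, _, _, hR₀⟩ := L05.Henselization.exists_isStrictHenselization (T₀.presheaf.stalk (π.base y))
  haveI := hR₀
  obtain ⟨φ, _, hφ⟩ := StalkBC.exists_strictMap π y R₀ R
  have hint : φ.IsIntegral := isIntegral_strictMap π y R₀ R φ hφ
  letI : Algebra R₀ R := φ.toAlgebra
  haveI : Algebra.IsIntegral R₀ R := algebraMap_isIntegral_iff.mp hint
  refine ⟨ResidueField R, inferInstance, inferInstance, Hens2.geomPt T y R, ?_, ?_⟩
  · refine (Scheme.Hom.comp_apply _ _ _).trans (Eq.trans (congrArg (Hens2.specOf T y R) ?_) (specOf_closedPoint y R))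
    rw [Subsingleton.elim (default : Spec (CommRingCat.of (ResidueField R))) (closedPoint (ResidueField R))]
    exact IsLocalRing.comap_closedPoint (residue R)
  haveI := EtSite.preservesFiniteLimits_pull (pullback.snd h (Hens2.specOf T y R))
  refine stalk_acyclic h y R _ fun q => ?_
  refine bijective_Hpull_congr _ (EtCore.pullConst (Hens2.specOf T y R) (ZMod n)).symm q
    (bijective_Hpull_isPt _ (isPt_strict R) ?_ q)
  haveI : WeaklyEtale (Hens2.specOf T₀ (π.base y) R₀) := Acyclic0.weaklyEtale_fromStrict _ R₀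
  have hc := (IsPullback.of_hasPullback h (Hens2.specOf T y R)).paste_horiz
    (IsPullback.of_hasPullback f (π ≫ v))
  refine (isPt_of_iso hc.isoPullback.hom).2 (isPt_integral_strict f hstrong hfib (R₀ := R₀)
    (Hens2.specOf T₀ (π.base y) R₀ ≫ v) _ ?_)
  rw [← Category.assoc, ← Category.assoc]
  exact congrArg (· ≫ v) (StalkBC.specOf_comp π y R₀ R φ hφ)

end Groth.L27.CompLA
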