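import Groth.Agent.L27.CompLA.Base
import Groth.Agent.L28.AcyComp.StrictTower
import Groth.Agent.L27.SmoothLA.FieldExt
import Groth.Agent.L27.ProperH1.Main

/-! # Composition of locally acyclic morphisms -/

universe u

open CategoryTheory CategoryTheory.Limits AlgebraicGeometry Opposite IsLocalRing
open scoped TensorProduct

set_option autoImplicit false
set_option backward.isDefEq.respectTransparency.types false
set_option linter.style.haveILetI false
set_option linter.unusedSectionVars false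

noncomputable section

namespace Groth.L27.CompLA

open Groth.L27.LimCoh Groth.L27.LimBC Groth.L27.FinBC

variable {n : ℕ} [NeZero n]

theorem isPt_tensor_iff (A B C : Type u) [CommRing A] [CommRing B] [CommRing C] [Algebra A B] [Algebra A C]
    {P : Scheme.{u}} {k : P ⟶ Spec (CommRingCat.of B)} {k' : P ⟶ Spec (CommRingCat.of C)}
    (c : IsPullback k k' (Spec.map (CommRingCat.ofHom (algebraMap A B)))
      (Spec.map (CommRingCat.ofHom (algebraMap A C)))) :
    IsPt n P ↔ IsPt n (Spec (CommRingCat.of (B ⊗[A] C))) :=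
  isPt_of_iso (c.isoIsPullback _ _
    (isPullback_SpecMap_of_isPushout _ _ _ _ (CommRingCat.isPushout_tensorProduct A B C))).hom

set_option maxHeartbeats 800000 in
theorem isPt_vcRing_comp {X Y Z : Scheme.{u}} (f : X ⟶ Y) (g : Y ⟶ Z) (hf : EtRest.IsLocallyAcyclic f)
    (hg : EtRest.IsLocallyAcyclic g) (x : X) (RZ RX : Type u) [CommRing RZ] [CommRing RX] [IsLocalRing RZ]
    [IsLocalRing RX] [Algebra (Z.presheaf.stalk ((f ≫ g).base x)) RZ]
    [IsLocalHom (algebraMap (Z.presheaf.stalk ((f ≫ g).base x)) RZ)]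
    [Hensel.IsStrictHenselization (Z.presheaf.stalk ((f ≫ g).base x)) RZ]
    [Algebra (X.presheaf.stalk x) RX] [IsLocalHom (algebraMap (X.presheaf.stalk x) RX)]
    [Hensel.IsStrictHenselization (X.presheaf.stalk x) RX]
    [Algebra RZ RX] [IsLocalHom (algebraMap RZ RX)]
    (w : (algebraMap RZ RX).comp (algebraMap (Z.presheaf.stalk ((f ≫ g).base x)) RZ) =
      (algebraMap (X.presheaf.stalk x) RX).comp ((f ≫ g).stalkMap x).hom)
    (Ω : Type u) [Field Ω] [IsSepClosed Ω] [Algebra RZ Ω] (hn : (n : X.residueField x) ≠ 0) :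
    IsPt n (Spec (CommRingCat.of (RX ⊗[RZ] Ω))) := by
  let y := f.base x
  letI : Algebra (Z.presheaf.stalk (g.base y)) RZ :=
    ‹Algebra (Z.presheaf.stalk ((f ≫ g).base x)) RZ›
  haveI : IsLocalHom (algebraMap (Z.presheaf.stalk (g.base y)) RZ) :=
    ‹IsLocalHom (algebraMap (Z.presheaf.stalk ((f ≫ g).base x)) RZ)›
  haveI : Hensel.IsStrictHenselization (Z.presheaf.stalk (g.base y)) RZ :=
    ‹Hensel.IsStrictHenselization (Z.presheaf.stalk ((f ≫ g).base x)) RZ›
  obtain ⟨RY, _, _, _, _, hRY⟩ := L05.Henselization.exists_isStrictHenselization (Y.presheaf.stalk y)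
  haveI := hRY
  obtain ⟨_, _⟩ := StalkBC.henselian_strict y RY
  obtain ⟨_, _⟩ := StalkBC.henselian_strict x RX
  obtain ⟨ψ, hψl, hψ⟩ := StalkBC.exists_strictMap f x RY RX
  have hsc : ((f ≫ g).stalkMap x).hom = (f.stalkMap x).hom.comp (g.stalkMap y).hom := by
    rw [Scheme.Hom.stalkMap_comp]; rfl
  obtain ⟨χ, hχl, hχ, hfac⟩ := L28.AcyComp.exists_strict_factor (A' := RZ) (B' := RY) (C' := RX)
    (g.stalkMap y).hom (f.stalkMap x).hom ψ hψ (algebraMap RZ RX) (by rw [← hsc]; exact w)
  letI : Algebra RY RX := ψ.toAlgebra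
  letI : Algebra RZ RY := χ.toAlgebra
  haveI : IsLocalHom (algebraMap RZ RY) := hχl
  haveI : IsLocalHom (algebraMap RY RX) := hψl
  -- invertibility of `n`
  have hnX : IsUnit (n : RX) := by
    have hs : IsUnit (n : X.presheaf.stalk x) := by
      refine isUnit_of_map_unit (IsLocalRing.residue (X.presheaf.stalk x)) _ ?_
      rw [map_natCast]
      exact isUnit_iff_ne_zero.2 hn
    have h := hs.map (algebraMap (X.presheaf.stalk x) RX)
    rwa [map_natCast] at h
  have hnZ : IsUnit (n : RZ) := isUnit_of_map_unit (algebraMap RZ RX) _ (by rwa [map_natCast])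
  have hny : (n : Y.residueField y) ≠ 0 := fun h => hn (by
    rw [← map_natCast (f.residueFieldMap x).hom n, h, map_zero])
  -- the morphism of strict localizations
  let fψ := Spec.map (CommRingCat.ofHom ψ)
  let u := Hens2.specOf X x RX
  let v₀ := Hens2.specOf Y y RY
  haveI : WeaklyEtale u := Acyclic0.weaklyEtale_fromStrict x RX
  haveI : WeaklyEtale v₀ := Acyclic0.weaklyEtale_fromStrict y RY
  have hnΓ : IsUnit (n : Γ(Spec (CommRingCat.of RX), ⊤)) := by
    have h := hnX.map (Scheme.ΓSpecIso (CommRingCat.of RX)).inv.hom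
    rwa [map_natCast] at h
  have hstrong : StrongLA fψ (EtCoh.const (Spec (CommRingCat.of RX)) (ZMod n)) :=
    strongLA_const' hf fψ u v₀ (StalkBC.specOf_comp f x RY RX ψ hψ).symm hnΓ
  have hfib : ∀ (L : Type u) [Field L] [IsSepClosed L] (t : Spec (CommRingCat.of L) ⟶ Spec (CommRingCat.of RY)),
      IsPt n (pullback fψ t) := by
    intro L _ _ t
    obtain ⟨φ, rfl⟩ := Spec.map_surjective t
    letI : Algebra RY L := φ.hom.toAlgebra
    exact (isPt_tensor_iff RY RX L (IsPullback.of_hasPullback _ _)).2 (hf x RY RX hψ L n hn)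
  -- the image point and the algebraic separably closed field
  let p : Ideal RZ := RingHom.ker (algebraMap RZ Ω)
  haveI : p.IsPrime := RingHom.ker_isPrime _
  let Rp := Localization.AtPrime p
  have hp : ∀ s : p.primeCompl, IsUnit (algebraMap RZ Ω s) := fun s => isUnit_iff_ne_zero.2 s.2
  let ρ : Rp →+* Ω := IsLocalization.lift (M := p.primeCompl) hp
  haveI : IsLocalHom ρ := ⟨fun a ha => by
    obtain ⟨b, s, rfl⟩ := IsLocalization.exists_mk'_eq p.primeCompl a
    refine (IsLocalization.AtPrime.isUnit_mk'_iff Rp p b s).2 fun hb => ha.ne_zero ?_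
    simp only [ρ, IsLocalization.lift_mk']
    rw [show algebraMap RZ Ω b = 0 from hb, zero_mul]⟩
  letI : Algebra (ResidueField Rp) Ω := (IsLocalRing.ResidueField.lift ρ).toAlgebra
  let Ω₀ := separableClosure (ResidueField Rp) Ω
  haveI : IsSepClosed Ω₀ := (separableClosure.isSepClosure (ResidueField Rp) Ω).sep_closed
  haveI : Algebra.IsSeparable (ResidueField Rp) Ω₀ := separableClosure.isSeparable _ _
  let ρ₀ : Rp →+* Ω₀ := (algebraMap (ResidueField Rp) Ω₀).comp (residue Rp)
  letI : Algebra RZ Ω₀ := (ρ₀.comp (algebraMap RZ Rp)).toAlgebra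
  let π' := Spec.map (CommRingCat.ofHom ρ₀)
  haveI : IsIntegralHom π' := IsIntegralHom.SpecMap_iff.mpr
    (RingHom.IsIntegral.trans _ _ (RingHom.isIntegral_of_surjective _ IsLocalRing.residue_surjective)
      (algebraMap_isIntegral_iff.2 (Algebra.IsAlgebraic.isIntegral (K := ResidueField Rp) (A := Ω₀))))
  let v' := Spec.map (CommRingCat.ofHom (algebraMap RZ Rp))
  haveI : WeaklyEtale v' := (Groth.L20.weaklyEtale_specMap_iff _).2 (by
    have h := Groth.L20.weaklyEtale_isLocalization p.primeCompl Rp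
    have e : (CommRingCat.ofHom (algebraMap RZ Rp)).hom.toAlgebra = (inferInstance : Algebra RZ Rp) :=
      Algebra.algebra_ext _ _ fun _ => rfl
    exact e.symm ▸ h)
  let cz := Spec.map (CommRingCat.ofHom χ)
  let zL := Spec.map (CommRingCat.ofHom (algebraMap RZ Ω₀))
  have hzL : π' ≫ v' = zL := by rw [← Spec.map_comp]; rfl
  let v := pullback.fst cz v'
  haveI : WeaklyEtale v := MorphismProperty.pullback_fst _ _ inferInstance
  let π := pullback.fst (pullback.snd cz v') π'
  haveI : IsIntegralHom π := MorphismProperty.pullback_fst (P := @IsIntegralHom) _ _ inferInstance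
  have cT : IsPullback (π ≫ v) (pullback.snd (pullback.snd cz v') π') cz zL :=
    hzL ▸ (IsPullback.of_hasPullback (pullback.snd cz v') π').paste_horiz (IsPullback.of_hasPullback cz v')
  have hT : IsPt n (pullback (pullback.snd cz v') π') :=
    (isPt_tensor_iff RZ RY Ω₀ cT).2 (hg y RZ RY hχ Ω₀ n hny)
  haveI := EtSite.preservesFiniteLimits_pull (pullback.snd fψ (π ≫ v))
  have hXT : IsPt n (pullback fψ (π ≫ v)) :=
    (isPt_of_bijective _ fun q => bijective_Hpull_pullback fψ hstrong hfib π v q).2 hT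
  have hh : fψ ≫ cz = Spec.map (CommRingCat.ofHom (algebraMap RZ RX)) := by
    rw [← Spec.map_comp]
    exact congrArg (fun r => Spec.map (CommRingCat.ofHom r)) hfac
  let h' := Spec.map (CommRingCat.ofHom (algebraMap RZ RX))
  have cX : IsPullback (pullback.fst fψ (π ≫ v)) (pullback.snd fψ (π ≫ v) ≫ pullback.snd (pullback.snd cz v') π')
      h' zL := isPullback_congr' hh rfl ((IsPullback.of_hasPullback fψ (π ≫ v)).paste_vert cT)
  have hP : IsPt n (pullback h' zL) := (isPt_of_iso cX.isoPullback.hom).1 hXT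
  -- extension of the separably closed field
  let k := Spec.map (CommRingCat.ofHom (algebraMap Ω₀ Ω))
  let b := pullback.fst (pullback.snd h' zL) k
  let L : Set ℕ := {ℓ | ℓ ∣ n}
  have hnΩ : (n : Ω₀) ≠ 0 := by
    have h := hnZ.map (algebraMap RZ Ω₀)
    rw [map_natCast] at h
    exact h.ne_zero
  have hL : ∀ ℓ ∈ L, ℓ.Prime → (ℓ : Ω₀) ≠ 0 := fun ℓ hℓ _ h => hnΩ (by
    obtain ⟨m, rfl⟩ := hℓ
    rw [Nat.cast_mul, h, zero_mul])
  haveI := EtSite.preservesFiniteLimits_pull b
  have hb : ∀ q, Function.Bijective (EtCore.Hpull b (EtCoh.const _ (ZMod n)) q) := fun q =>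
    ((ULA.compN_self (SmoothLA.isUAcyclicN_fieldExt Ω₀ Ω L hL q b _ (pullback.snd h' zL)
        (IsPullback.of_hasPullback (pullback.snd h' zL) k).flip)) _
      (fun U s x => ⟨U, 𝟙 U, n, ⟨x, rfl⟩, ⟨NeZero.pos n, fun _ _ hd => hd⟩, by
        simpa [Nat.card_zmod] using L27.ProperH1.killedBy_const (Y := pullback h' zL) (ZMod n) U
          ((EtCoh.const (pullback h' zL) (ZMod n)).obj.map (𝟙 U).op s)⟩)).1 q le_rfl
  have hP' : IsPt n (pullback (pullback.snd h' zL) k) := (isPt_of_bijective b hb).2 hP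
  have hk : k ≫ zL = Spec.map (CommRingCat.ofHom (algebraMap RZ Ω)) := by
    rw [← Spec.map_comp]
    refine congrArg (fun r => Spec.map r) (CommRingCat.hom_ext (RingHom.ext fun a => ?_))
    show ρ (algebraMap RZ Rp a) = algebraMap RZ Ω a
    exact IsLocalization.lift_eq hp a
  exact (isPt_tensor_iff RZ RX Ω
    (hk ▸ (IsPullback.of_hasPullback (pullback.snd h' zL) k).paste_horiz (IsPullback.of_hasPullback h' zL))).1 hP'

end Groth.L27.CompLA
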